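import Groth.Agent.EGA4Lib.StrictlyCatenaryEFT
import Groth.Agent.GeomFieldLib.CMTensor
import Groth.Agent.Synt44.Mor
import Groth.Agent.Synt44.CM
import Groth.Agent.CAlg48.FFDescent
import Mathlib.RingTheory.Spectrum.Prime.Chevalley

/-!
# Serre's condition `(S_k)` is local for the syntomic topology
-/

set_option autoImplicit false
set_option linter.style.haveILetI false

open CategoryTheory AlgebraicGeometry

universe u

namespace Groth.Agent.Desc77

/-- `(S_k)` is checked on the local rings. -/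
theorem hasSk_of_forall_localization (k : ℕ) (R : Type u) [CommRing R]
    (h : ∀ (p : Ideal R) [p.IsPrime], LocCoh.HasSk k (Localization.AtPrime p) (Localization.AtPrime p)) :
    LocCoh.HasSk k R R := by
  intro p _
  obtain ⟨q, hq, ⟨e⟩⟩ := EGA4Lib.exists_localization_equiv_of_le p p le_rfl
  haveI := hq
  obtain ⟨h1, h2⟩ := EGA4Lib.depth_supportDim_ringEquiv e
  obtain ⟨a1, a2⟩ := EGA4Lib.depth_supportDim_congr (L := Localization.AtPrime p)
    (Depth.localizedModuleSelfEquiv p.primeCompl)
  obtain ⟨b1, b2⟩ := EGA4Lib.depth_supportDim_congr (L := Localization.AtPrime q)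
    (Depth.localizedModuleSelfEquiv q.primeCompl)
  have := h p q
  rw [b1, b2, h1, h2] at this
  rw [a1, a2]
  exact this

/-- A syntomic algebra over a Noetherian `(S_k)` ring is `(S_k)`. -/
theorem hasSk_of_isSyntomic (k : ℕ) (R A : Type u) [CommRing R] [CommRing A] [Algebra R A] [IsNoetherianRing R]
    (hsyn : Synt.IsSyntomic R A) (hR : LocCoh.HasSk k R R) :
    IsNoetherianRing A ∧ LocCoh.HasSk k A A := by
  obtain ⟨hflat, hfp, hlci⟩ := hsyn
  haveI : IsNoetherianRing A := Algebra.FiniteType.isNoetherianRing R A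
  refine ⟨inferInstance, EGA4Lib.hasSk_of_flat_of_fibres R k hR fun p _ => ?_⟩
  exact GeomFieldLib.hasSk_of_isCohenMacaulayRing
    (Synt44.isCohenMacaulayRing_of_isLCIOver (hlci ⟨p, inferInstance⟩)) k

/-- `(S_k)` descends to a basic open contained in the image of a flat algebra. -/
theorem hasSk_away (k : ℕ) (R A : Type u) [CommRing R] [CommRing A] [Algebra R A] [Module.Flat R A]
    [IsNoetherianRing A] (hA : LocCoh.HasSk k A A) (g : R)
    (hg : ∀ p : PrimeSpectrum R, g ∉ p.asIdeal → p ∈ Set.range (PrimeSpectrum.comap (algebraMap R A))) :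
    IsNoetherianRing (Localization.Away g) ∧ LocCoh.HasSk k (Localization.Away g) (Localization.Away g) := by
  let T := Localization.Away (algebraMap R A g)
  letI : Algebra (Localization.Away g) T := (Localization.awayMap (algebraMap R A) g).toAlgebra
  haveI : IsScalarTower R (Localization.Away g) T := IsScalarTower.of_algebraMap_eq' (by
    rw [RingHom.algebraMap_toAlgebra, Localization.awayMap, IsLocalization.Away.map, IsLocalization.map_comp,
      IsScalarTower.algebraMap_eq R A T])
  haveI : Module.Flat R T := Module.Flat.trans R A T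
  haveI : Module.Flat (Localization.Away g) T :=
    (Module.flat_iff_of_isLocalization (Localization.Away g) (Submonoid.powers g) T).2 inferInstance
  haveI : Module.FaithfullyFlat (Localization.Away g) T := by
    refine Module.FaithfullyFlat.of_comap_surjective fun P => ?_
    let p : PrimeSpectrum R := PrimeSpectrum.comap (algebraMap R (Localization.Away g)) P
    have hp : g ∉ p.asIdeal := fun h =>
      P.2.ne_top (P.asIdeal.eq_top_of_isUnit_mem h (IsLocalization.Away.algebraMap_isUnit g))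
    obtain ⟨Q, hQ⟩ := hg p hp
    have hQg : algebraMap R A g ∉ Q.asIdeal := fun h => hp (by rw [← hQ]; exact h)
    have hQ' : Q ∈ Set.range (PrimeSpectrum.comap (algebraMap A T)) := by
      rw [PrimeSpectrum.localization_away_comap_range T (algebraMap R A g)]
      exact hQg
    obtain ⟨Q', rfl⟩ := hQ'
    refine ⟨Q', PrimeSpectrum.localization_comap_injective (Localization.Away g) (Submonoid.powers g) ?_⟩
    rw [← PrimeSpectrum.comap_comp_apply, ← IsScalarTower.algebraMap_eq R (Localization.Away g) T,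
      IsScalarTower.algebraMap_eq R A T, PrimeSpectrum.comap_comp_apply, hQ]
  haveI : IsNoetherianRing T := IsLocalization.isNoetherianRing (Submonoid.powers (algebraMap R A g)) T inferInstance
  haveI : IsNoetherianRing (Localization.Away g) := CAlg48.FFDescent.isNoetherianRing (Localization.Away g) T
  exact ⟨inferInstance, EGA4Lib.hasSk_of_faithfullyFlat (Localization.Away g) k
    (EGA4Lib.hasSk_of_isLocalization k T (Submonoid.powers (algebraMap R A g)) hA)⟩

section Scheme

variable {X : Scheme.{u}}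

/-- The rings of affine opens of a scheme with `(S_k)` local rings are `(S_k)`. -/
theorem hasSk_affine (k : ℕ) (h : ∀ x : X, LocCoh.HasSk k (X.presheaf.stalk x) (X.presheaf.stalk x))
    {U : X.Opens} (hU : IsAffineOpen U) : LocCoh.HasSk k Γ(X, U) Γ(X, U) := by
  refine hasSk_of_forall_localization k _ fun p hp => ?_
  let y : PrimeSpectrum Γ(X, U) := ⟨p, hp⟩
  have hy : hU.fromSpec y ∈ U := (hU.isoSpec.inv y).2
  letI : Algebra Γ(X, U) (X.presheaf.stalk (hU.fromSpec y)) := X.presheaf.algebra_section_stalk ⟨_, hy⟩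
  haveI : IsLocalization.AtPrime (X.presheaf.stalk (hU.fromSpec y)) p := hU.isLocalization_stalk' y hy
  exact GeomFieldLib.hasSk_of_ringEquiv k (IsLocalization.algEquiv p.primeCompl
    (X.presheaf.stalk (hU.fromSpec y)) (Localization.AtPrime p)).toRingEquiv (h _)

/-- The local rings at points of an affine open with `(S_k)` ring are `(S_k)`. -/
theorem hasSk_stalk (k : ℕ) {U : X.Opens} (hU : IsAffineOpen U) (h : LocCoh.HasSk k Γ(X, U) Γ(X, U))
    (x : X) (hx : x ∈ U) : LocCoh.HasSk k (X.presheaf.stalk x) (X.presheaf.stalk x) := by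
  letI : Algebra Γ(X, U) (X.presheaf.stalk x) := X.presheaf.algebra_section_stalk ⟨x, hx⟩
  haveI := hU.isLocalization_stalk ⟨x, hx⟩
  exact EGA4Lib.hasSk_of_isLocalization k _ (hU.primeIdealOf ⟨x, hx⟩).asIdeal.primeCompl h

/-- A scheme covered by affine opens with Noetherian `(S_k)` rings. -/
theorem hasSk_of_cover (k : ℕ)
    (h : ∀ x : X, ∃ W : X.affineOpens, x ∈ W.1 ∧ IsNoetherianRing Γ(X, W.1) ∧ LocCoh.HasSk k Γ(X, W.1) Γ(X, W.1)) :
    IsLocallyNoetherian X ∧ ∀ x : X, LocCoh.HasSk k (X.presheaf.stalk x) (X.presheaf.stalk x) := by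
  choose W hW hnoeth hsk using h
  refine ⟨isLocallyNoetherian_of_affine_cover (S := W) (top_le_iff.1 fun x _ => ?_) hnoeth,
    fun x => hasSk_stalk k (W x).2 (hsk x) x (hW x)⟩
  exact TopologicalSpace.Opens.mem_iSup.2 ⟨x, hW x⟩

/-- `(S_k)` is local in the syntomic topology. -/
theorem hasSk_iff_of_syntomic_cover {ι : Type u} {S : Scheme.{u}} {X : ι → Scheme.{u}} (f : ∀ i, X i ⟶ S)
    (hsurj : ∀ s : S, ∃ i, s ∈ Set.range (f i).base) (hsyn : ∀ i, Synt.IsSyntomicMor (f i)) (k : ℕ) :
    (IsLocallyNoetherian S ∧ ∀ s : S, LocCoh.HasSk k (S.presheaf.stalk s) (S.presheaf.stalk s)) ↔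
      ∀ i, IsLocallyNoetherian (X i) ∧
        ∀ x : X i, LocCoh.HasSk k ((X i).presheaf.stalk x) ((X i).presheaf.stalk x) := by
  constructor
  · rintro ⟨hS, hsk⟩ i
    refine hasSk_of_cover k fun x => ?_
    obtain ⟨U, V, e, hxU, h⟩ := hsyn i x
    letI := ((f i).appLE V.1 U.1 e).hom.toAlgebra
    haveI : IsNoetherianRing Γ(S, V.1) := hS.component_noetherian V
    exact ⟨U, hxU, hasSk_of_isSyntomic k _ _ h (hasSk_affine k hsk V.2)⟩
  · intro hX
    refine hasSk_of_cover k fun s => ?_
    obtain ⟨i, x, rfl⟩ := hsurj s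
    obtain ⟨U, V, e, hxU, h⟩ := hsyn i x
    letI := ((f i).appLE V.1 U.1 e).hom.toAlgebra
    obtain ⟨hflat, hfp, -⟩ := h
    haveI := hflat
    haveI := hfp
    haveI : IsNoetherianRing Γ(X i, U.1) := (hX i).1.component_noetherian U
    let p := V.2.primeIdealOf ⟨(f i).base x, e hxU⟩
    have hp : p ∈ Set.range (PrimeSpectrum.comap (algebraMap Γ(S, V.1) Γ(X i, U.1))) :=
      ⟨U.2.primeIdealOf ⟨x, hxU⟩, IsAffineOpen.comap_primeIdealOf_appLE V.1 V.2 U.1 U.2 e hxU⟩
    obtain ⟨_, ⟨g, rfl⟩, hpg, hgr⟩ := PrimeSpectrum.isTopologicalBasis_basic_opens.exists_subset_of_mem_open hp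
      (PrimeSpectrum.isOpenMap_comap_of_hasGoingDown_of_finitePresentation.isOpen_range)
    obtain ⟨hn, hk⟩ := hasSk_away k Γ(S, V.1) Γ(X i, U.1) (hasSk_affine k (hX i).2 U.2) g
      fun q hq => hgr hq
    haveI := V.2.isLocalization_basicOpen g
    let E : Localization.Away g ≃+* Γ(S, S.basicOpen g) :=
      (IsLocalization.algEquiv (Submonoid.powers g) _ _).toRingEquiv
    refine ⟨⟨S.basicOpen g, V.2.basicOpen g⟩, ?_, isNoetherianRing_of_ringEquiv _ E,
      GeomFieldLib.hasSk_of_ringEquiv k E hk⟩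
    show (f i).base x ∈ S.basicOpen g
    have := hpg
    refine (congrArg (· ∈ S.basicOpen g) (V.2.fromSpec_primeIdealOf ⟨(f i).base x, e hxU⟩)).mp ?_
    change p ∈ V.2.fromSpec ⁻¹ᵁ S.basicOpen g
    rw [V.2.fromSpec_preimage_basicOpen]
    exact this

end Scheme

end Groth.Agent.Desc77
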